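import Groth.Agent.SecMulGenLib.Tmul
import Groth.Agent.AmpleEmb.GenRatio
import Groth.Agent.AmpleEmb.Inverse
import Groth.Agent.ProjCoh.PSData
import Groth.Agent.RpushLib.Finite
import Groth.Agent.EulerIneqLib.Basic

/-!
# Multiplication of sections by a generated invertible module is eventually surjective
-/

set_option autoImplicit false
set_option backward.isDefEq.respectTransparency false
set_option linter.style.haveILetI false
set_option maxHeartbeats 1000000
set_option synthInstance.maxHeartbeats 200000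

universe u

open CategoryTheory CategoryTheory.Limits AlgebraicGeometry TopologicalSpace Opposite
open Groth.Agent.PullbackMod Groth.Agent.DCohLib
open Groth.Agent.ParaFLib (Gen)
open Groth.Agent.ProjCoh (MulData)

noncomputable section

namespace Groth.Agent.SecMulGenLib

variable {X P : Scheme.{u}}

/-- The direct image of multiplication data along a map matching covers and ratios. -/
def pushData {ι : Type} (T : MulData X ι) (g : X ⟶ P) (U : ι → P.Opens) (hU : iSup U = ⊤)
    (t : ∀ i : ι, ι → Γ(P, U i)) (t_open : ∀ i a, P.basicOpen (t i a) = U i ⊓ U a)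
    (hle : ∀ i, g ⁻¹ᵁ U i ≤ T.U i)
    (ht : ∀ i a, g.app (U i) (t i a) = X.presheaf.map (homOfLE (hle i)).op (T.t i a)) : MulData P ι where
  U := U
  cover := hU
  F d := (Scheme.Modules.pushforward g).obj (T.F d)
  μ a d := (Scheme.Modules.pushforward g).map (T.μ a d)
  t := t
  t_open := t_open
  bij i d x hx := ProjCoh.stalk_bijective_of_app _
    (fun V hV => T.app_bij i d (V := g ⁻¹ᵁ V) ((g.preimage_mono hV).trans (hle i))) hx
  ratio i a d x hx z := by
    refine ProjCoh.stalk_ratio_of_app _ _ (t i a) (fun V hV s => ?_) hx z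
    have hV' : g ⁻¹ᵁ V ≤ T.U i := (g.preimage_mono hV).trans (hle i)
    have h := ProjCoh.app_ratio_of_stalk (T.μ a d) (T.μ i d) (T.t i a)
      (fun x hx z => T.ratio i a d x hx z) hV' (s : Γ(T.F (d - 1), g ⁻¹ᵁ V))
    refine h.trans ?_
    have hc : g.app V (P.presheaf.map (homOfLE hV).op (t i a)) =
        X.presheaf.map (homOfLE hV').op (T.t i a) := by
      refine (congr($(g.naturality (homOfLE hV).op).hom (t i a))).trans ?_
      show X.presheaf.map _ (g.app (U i) (t i a)) = _
      rw [ht, ← ConcreteCategory.comp_apply, ← X.presheaf.map_comp]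
      rfl
    exact congrArg (· • (T.μ i d).app (g ⁻¹ᵁ V) (s : Γ(T.F (d - 1), g ⁻¹ᵁ V))) hc.symm

variable {L : X.Modules}

/-- Twisting a coherent module by high powers of a globally generated invertible module, every section is a sum
of products with sections of the invertible module. -/
theorem exists_spans_one (k : Type u) [Field k] [X.Over (Spec (CommRingCat.of k))]
    [IsProper (X ↘ Spec (CommRingCat.of k))] (hL : PicF.IsInvertible L) (hgg : Curv2.IsGloballyGenerated L)
    (F : X.Modules) (hF : Coh.IsCoh F) :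
    ∃ a₀ : ℕ, ∀ a : ℕ, a₀ ≤ a → Spans (CohB1.tensorMod F (CohB1.tensorPow L a)) L := by
  classical
  obtain ⟨M, -, ⟨γ⟩⟩ := AmpleEmb.exists_isInverseOf hL
  let δ : CohB1.tensorMod M L ≅ Coh.structureModule X := AmpleLib.comm M L ≪≫ γ
  let pw := SecMulLib.pw L M
  let τ : ∀ d, tmod (CohB1.tensorMod F (pw (d - 1))) L ≅ CohB1.tensorMod F (pw d) := fun d =>
    AmpleLib.assoc _ _ _ ≪≫ AmpleLib.tIso (Iso.refl F) (SecMulLib.nonempty_pw_succ δ d).some
  haveI := EulerIneqLib.isNoetherian_proper (X := X) k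
  haveI := EulerIneqLib.finite_HH (k := k) (CurveLib.isCoh_of_isInvertible hL) 0
  let B := Module.finBasis k (Coh.HH X L 0)
  let n := Module.finrank k (Coh.HH X L 0)
  let c : Fin (n + 1) → Coh.HH X L 0 := Fin.cons 0 B
  have hc : Submodule.span k (Set.range c) = ⊤ := top_le_iff.1 (B.span_eq.ge.trans (Submodule.span_mono (by
    rintro _ ⟨i, rfl⟩
    exact ⟨i.succ, Fin.cons_succ _ _ i⟩)))
  let σ := fun i => CBLib.h0sec L (c i)
  have hcov := SecMulLib.iSup_locus_eq_top k hL hgg c hc
  let T := SecMulLib.mulData hL σ hcov (fun d => CohB1.tensorMod F (pw d)) τ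
  have hg : ∀ i, Gen (T.U i) (L.presheaf.map (homOfLE (le_top : T.U i ≤ ⊤)).op (σ i)) :=
    fun i => SecMulLib.gen_locus hL (σ i)
  have hts : ∀ i a, T.t i a • L.presheaf.map (homOfLE (le_top : T.U i ≤ ⊤)).op (σ i) =
      L.presheaf.map (homOfLE (le_top : T.U i ≤ ⊤)).op (σ a) :=
    fun i a => (SecMulLib.exists_ratio hL σ i a).choose_spec
  let R : GenMorph.RatioFamily X n :=
    { U := T.U
      cover := T.cover
      t := T.t
      t_self := fun i => (hg i _ le_rfl).1 (by
        simp only [ParaFLib.res_self, one_smul]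
        exact hts i i)
      t_open := T.t_open
      t_mul := fun i j a => by
        refine ((hg j) (T.U i ⊓ T.U j) inf_le_right).1 ?_
        have e1 := congrArg (L.presheaf.map (homOfLE (inf_le_right : T.U i ⊓ T.U j ≤ T.U j)).op) (hts j a)
        have e2 := congrArg (L.presheaf.map (homOfLE (inf_le_right : T.U i ⊓ T.U j ≤ T.U j)).op) (hts j i)
        have e3 := congrArg (L.presheaf.map (homOfLE (inf_le_left : T.U i ⊓ T.U j ≤ T.U i)).op) (hts i a)
        rw [L.map_smul] at e1 e2 e3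
        simp only [ParaFLib.res_res] at e1 e2 e3 ⊢
        rw [e1, mul_comm, mul_smul, e2, e3] }
  let f := X ↘ Spec (CommRingCat.of k)
  let φ : k →+* Γ(X, ⊤) := ((Scheme.ΓSpecIso (CommRingCat.of k)).inv ≫ f.appTop).hom
  let g := GenMorph.toProj φ R
  haveI : IsProper g := by
    have h : IsProper (g ≫ CohB1.ProjSpace.toSpec n k) := by
      rw [GenMorph.toProj_toSpec φ R f rfl]
      infer_instance
    exact IsProper.of_comp _ (CohB1.ProjSpace.toSpec n k)
  haveI : IsLocallyNoetherian (CohB1.ProjSpace n k) :=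
    LocallyOfFiniteType.isLocallyNoetherian (CohB1.ProjSpace.toSpec n k)
  have hpre : ∀ i, g ⁻¹ᵁ AmpleEmb.stdOpen n k i = T.U i := fun i => GenMorph.preimage_basicOpen φ R i
  let TP := pushData T g (AmpleEmb.stdOpen n k) (AmpleEmb.iSup_stdOpen n k) (AmpleEmb.coordRatio n k)
    (AmpleEmb.basicOpen_coordRatio n k) (fun i => (hpre i).le) fun i a => by
      have h := GenMorph.toProj_appLE_ratio φ R i a
      show g.app _ _ = X.presheaf.map (homOfLE (hpre i).le).op (R.t i a)
      rw [← h, Scheme.Hom.appLE, ← ConcreteCategory.comp_apply, Category.assoc, ← X.presheaf.map_comp]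
      exact (congr($((congrArg (g.app _ ≫ ·) (X.presheaf.map_id (op (g ⁻¹ᵁ AmpleEmb.stdOpen n k i)))).trans
        (Category.comp_id _)).hom _)).symm
  have hF0 : Coh.IsCoh (TP.F 0) :=
    haveI hc0 : Coh.IsCoh (T.F 0) := ProjCoh.isCoh_of_iso (AmpleLib.unitR F).symm hF
    haveI : Coh.IsQCoh (T.F 0) := hc0.1
    RpushLib.isCoh_push g hc0
  let TD := TP.toTwistData hF0.1 fun S hS =>
    ProjCoh.isAffineOpen_inf (CohB1.polyGrading n k) (AmpleEmb.coordForm n k) S hS
  have hgen : TD.RatioGenerated (ProjCoh.projφ (CohB1.polyGrading n k)) := fun i =>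
    ProjCoh.ratio_generated_proj (CohB1.polyGrading n k) (AmpleEmb.coordForm n k) MvPolynomial.adjoin_range_X i
  have hfin : ∀ i, Module.Finite Γ(CohB1.ProjSpace n k, TD.U i) Γ(TD.F 0, TD.U i) := fun i =>
    QCohLib.finite_sections_of_isCoh hF0
      (Proj.isAffineOpen_basicOpen _ _ (AmpleEmb.coordForm n k i).2 one_pos)
  choose d₀ hd₀ using fun q : ℕ =>
    TD.exists_subsingleton_HH (ProjCoh.projφ (CohB1.polyGrading n k)) hgen hfin (q + 1) q.succ_pos
  obtain ⟨D, hD⟩ : ∃ D : ℤ, ∀ q, q ≤ n → d₀ q ≤ D :=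
    ⟨(Finset.range (n + 1)).sup' ⟨0, by simp⟩ d₀,
      fun q hq => Finset.le_sup' d₀ (Finset.mem_range.2 (Nat.lt_succ_of_le hq))⟩
  refine ⟨(D + n + 1).toNat, fun a ha => ?_⟩
  have hsum := SecMulLib.koszul_surj_le TP ((a + 1 : ℕ) : ℤ) fun e he => by
    have := hd₀ e (((a + 1 : ℕ) : ℤ) - ((2 + e : ℕ) : ℤ)) ((hD e (by omega)).trans (by omega))
    rwa [add_comm 1 e]
  obtain ⟨A, hA, ⟨ε⟩⟩ : ∃ A, CohB1.tensorMod F (pw (((a + 1 : ℕ) : ℤ) - 1)) = A ∧
      Nonempty (A ≅ CohB1.tensorMod F (CohB1.tensorPow L a)) :=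
    ⟨_, rfl, ⟨eqToIso (congrArg (CohB1.tensorMod F)
      (by rw [show ((a + 1 : ℕ) : ℤ) - 1 = Int.ofNat a by simp]; rfl))⟩⟩
  refine Spans.of_iso ε ?_
  subst hA
  intro z
  obtain ⟨b, hb⟩ := hsum (((τ ((a + 1 : ℕ) : ℤ)).hom.app ⊤ z :
    Γ(CohB1.tensorMod F (pw ((a + 1 : ℕ) : ℤ)), ⊤)))
  have h : z = ∑ i, (SecMulLib.twSec (σ i) _).app ⊤ (b i) := by
    apply (ConcreteCategory.bijective_of_isIso ((τ ((a + 1 : ℕ) : ℤ)).hom.app ⊤)).1
    rw [map_sum]
    exact hb
  rw [h]
  refine sum_mem fun i _ => ?_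
  rw [SecMulLib.secTw_app_top]
  exact AddSubgroup.subset_closure ⟨(_, σ i), rfl⟩

/-- Multiplication of sections of high twists of a coherent module by powers of a globally generated invertible
module is surjective. -/
theorem exists_spans_pow (k : Type u) [Field k] [X.Over (Spec (CommRingCat.of k))]
    [IsProper (X ↘ Spec (CommRingCat.of k))] (hL : PicF.IsInvertible L) (hgg : Curv2.IsGloballyGenerated L)
    (F : X.Modules) (hF : Coh.IsCoh F) :
    ∃ a₀ : ℕ, ∀ a b : ℕ, a₀ ≤ a →
      Spans (CohB1.tensorMod F (CohB1.tensorPow L a)) (CohB1.tensorPow L (b + 1)) := by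
  obtain ⟨a₀, h⟩ := exists_spans_one k hL hgg F hF
  refine ⟨a₀, fun a b ha => ?_⟩
  induction b with
  | zero =>
    intro z
    let φ := (AmpleLib.tIso (Iso.refl (CohB1.tensorMod F (CohB1.tensorPow L a))) (AmpleLib.powOne L).symm).hom.app ⊤
    obtain ⟨w, rfl⟩ := (ConcreteCategory.bijective_of_isIso φ).2 z
    have hw := h a ha w
    induction hw using AddSubgroup.closure_induction with
    | mem w hw =>
      obtain ⟨⟨x, y⟩, rfl⟩ := hw
      exact AddSubgroup.subset_closure ⟨(x, (AmpleLib.powOne L).symm.hom.app ⊤ y),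
        (tIso_tmul (Iso.refl _) (AmpleLib.powOne L).symm ⊤ x y).symm⟩
    | zero => rw [map_zero]; exact zero_mem _
    | add a b _ _ ha hb => rw [map_add]; exact add_mem ha hb
    | neg a _ ha => rw [map_neg]; exact neg_mem ha
  | succ b ih =>
    exact ih.comp ((h (a + (b + 1)) (by omega)).of_iso
      (AmpleLib.tIso (Iso.refl F) (AmpleLib.powAdd L a (b + 1)) ≪≫ (AmpleLib.assoc _ _ _).symm))

end Groth.Agent.SecMulGenLib
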