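import Groth.Agent.SecMulLib.Data
import Groth.Agent.SecTwistBridge.Basic

/-!
# Associativity on product sections, and spanning by product sections
-/

set_option autoImplicit false
set_option backward.isDefEq.respectTransparency false
set_option linter.style.haveILetI false
set_option maxHeartbeats 1000000
set_option synthInstance.maxHeartbeats 200000

universe u

open CategoryTheory CategoryTheory.Limits AlgebraicGeometry TopologicalSpace Opposite MonoidalCategory
open Groth.Agent.ModTensor

noncomputable section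

namespace Groth.Agent.SecMulGenLib

section Abstract

variable {C : Type u} [SmallCategory C] {J : GrothendieckTopology C} (O : Sheaf J CommRingCat.{u})

theorem shF_map_unit {M M' : PMod O.obj} (f : M ⟶ M') (c : Cᵒᵖ) (x : M.obj c) :
    (((preFunctor O).map ((shF O).map f)).app c).hom (((shUnit O M).app c).hom x) =
      ((shUnit O M').app c).hom ((f.app c).hom x) :=
  by
  have h := congrArg (fun φ => (PresheafOfModules.Hom.app φ c).hom x) (shUnit_naturality O f)
  simp only [PresheafOfModules.comp_app, ModuleCat.hom_comp, LinearMap.comp_apply] at h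
  exact h.symm

theorem assocApp_unit (A B D : ModSite.Mod O) (c : Cᵒᵖ) (a : (pre O A).obj c) (b : (pre O B).obj c)
    (d : (pre O D).obj c) :
    (((preFunctor O).map (DCohLib.assocApp O A B D).hom).app c).hom
      (((shUnit O (pre O (tens O A B) ⊗ pre O D)).app c).hom
        ((((shUnit O (pre O A ⊗ pre O B)).app c).hom (a ⊗ₜ b)) ⊗ₜ d)) =
      ((shUnit O (pre O A ⊗ pre O (tens O B D))).app c).hom
        (a ⊗ₜ (((shUnit O (pre O B ⊗ pre O D)).app c).hom (b ⊗ₜ d))) := by
  let e := sheafifyTensorRightIso O (pre O A ⊗ pre O B) (pre O D)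
  let w := ((shUnit O ((pre O A ⊗ pre O B) ⊗ pre O D)).app c).hom ((a ⊗ₜ b) ⊗ₜ d)
  have hw : (((preFunctor O).map e.hom).app c).hom w =
      ((shUnit O (pre O (tens O A B) ⊗ pre O D)).app c).hom
        ((((shUnit O (pre O A ⊗ pre O B)).app c).hom (a ⊗ₜ b)) ⊗ₜ d) :=
    shF_map_unit O (shUnit O (pre O A ⊗ pre O B) ▷ pre O D) c _
  rw [← hw]
  have h : (preFunctor O).map e.hom ≫ (preFunctor O).map (DCohLib.assocApp O A B D).hom =
      (preFunctor O).map ((shF O).map (α_ (pre O A) (pre O B) (pre O D)).hom) ≫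
        (preFunctor O).map ((shF O).map (pre O A ◁ shUnit O (pre O B ⊗ pre O D))) := by
    rw [← Functor.map_comp, ← Functor.map_comp]
    refine congrArg (preFunctor O).map ?_
    show e.hom ≫ e.inv ≫ _ = _
    rw [Iso.hom_inv_id_assoc]
    rfl
  have h2 := congrArg (fun φ => (PresheafOfModules.Hom.app φ c).hom w) h
  simp only [PresheafOfModules.comp_app, ModuleCat.hom_comp, LinearMap.comp_apply] at h2
  refine h2.trans ((congrArg _ (shF_map_unit O _ c _)).trans ((shF_map_unit O _ c _).trans ?_))
  rfl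

theorem map_unit_tmul {A A' B B' : ModSite.Mod O} (f : A ⟶ A') (g : B ⟶ B') (c : Cᵒᵖ) (a : (pre O A).obj c)
    (b : (pre O B).obj c) :
    (((preFunctor O).map (((ModSite.tensorBi O).map f).app B ≫ ((ModSite.tensorBi O).obj A').map g)).app c).hom
        (((shUnit O (pre O A ⊗ pre O B)).app c).hom (a ⊗ₜ b)) =
      ((shUnit O (pre O A' ⊗ pre O B')).app c).hom
        ((((preFunctor O).map f).app c).hom a ⊗ₜ (((preFunctor O).map g).app c).hom b) := by
  rw [tensorBi_map_app, tensorBi_obj_map, Functor.map_comp, PresheafOfModules.comp_app, ModuleCat.hom_comp,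
    LinearMap.comp_apply]
  exact (congrArg _ (shF_map_unit O _ c _)).trans ((shF_map_unit O _ c _).trans rfl)

end Abstract

variable {X : Scheme.{u}}

theorem assoc_tmul (A B D : X.Modules) (U : X.Opens) (a : Γ(A, U)) (b : Γ(B, U)) (d : Γ(D, U)) :
    (AmpleLib.assoc A B D).hom.app U
      (SecTwist.tmul (CohB1.tensorMod A B) D U (SecTwist.tmul A B U a b) d :
        Γ(CohB1.tensorMod (CohB1.tensorMod A B) D, U)) =
      (SecTwist.tmul A (CohB1.tensorMod B D) U a (SecTwist.tmul B D U b d) :
        Γ(CohB1.tensorMod A (CohB1.tensorMod B D), U)) :=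
  assocApp_unit X.sheaf A B D (op U) a b d

theorem tIso_tmul {A A' B B' : X.Modules} (e : A ≅ A') (f : B ≅ B') (U : X.Opens) (a : Γ(A, U)) (b : Γ(B, U)) :
    (AmpleLib.tIso e f).hom.app U (SecTwist.tmul A B U a b : Γ(CohB1.tensorMod A B, U)) =
      (SecTwist.tmul A' B' U (e.hom.app U a) (f.hom.app U b) : Γ(CohB1.tensorMod A' B', U)) :=
  map_unit_tmul X.sheaf e.hom f.hom (op U) a b

/-- Product sections span the sections of a tensor product. -/
def Spans (A B : X.Modules) : Prop :=
  ∀ z : Γ(CohB1.tensorMod A B, ⊤), z ∈ AddSubgroup.closure (Set.range fun p : Γ(A, ⊤) × Γ(B, ⊤) =>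
    (SecTwist.tmul A B ⊤ p.1 p.2 : Γ(CohB1.tensorMod A B, ⊤)))

theorem Spans.surjective {A B : X.Modules} (h : Spans A B) :
    Function.Surjective
      ((toSheafify (Opens.grothendieckTopology X) (CohB1.tensorPre A B).presheaf).app (op ⊤)) := by
  intro z
  have hz := h z
  induction hz using AddSubgroup.closure_induction with
  | mem z hz =>
    obtain ⟨⟨a, b⟩, rfl⟩ := hz
    exact ⟨a ⊗ₜ b, rfl⟩
  | zero => exact ⟨0, map_zero _⟩
  | add a b _ _ ha hb =>
    obtain ⟨a', ha'⟩ := ha
    obtain ⟨b', hb'⟩ := hb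
    exact ⟨a' + b', (map_add _ _ _).trans (congrArg₂ (· + ·) ha' hb')⟩
  | neg a _ ha =>
    obtain ⟨a', ha'⟩ := ha
    exact ⟨-a', (map_neg _ _).trans (congrArg Neg.neg ha')⟩

theorem Spans.of_iso {A A' B : X.Modules} (e : A ≅ A') (h : Spans A B) : Spans A' B := by
  intro z
  let φ := (AmpleLib.tIso e (Iso.refl B)).hom.app ⊤
  obtain ⟨w, rfl⟩ := (ConcreteCategory.bijective_of_isIso φ).2 z
  have hw := h w
  induction hw using AddSubgroup.closure_induction with
  | mem w hw =>
    obtain ⟨⟨a, b⟩, rfl⟩ := hw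
    exact AddSubgroup.subset_closure ⟨(e.hom.app ⊤ a, b), (tIso_tmul e (Iso.refl B) ⊤ a b).symm⟩
  | zero => rw [map_zero]; exact zero_mem _
  | add a b _ _ ha hb => rw [map_add]; exact add_mem ha hb
  | neg a _ ha => rw [map_neg]; exact neg_mem ha

/-- Spanning by `B` and then by `D` gives spanning by `B ⊗ D`. -/
theorem Spans.comp {A B D : X.Modules} (h : Spans A B) (h' : Spans (CohB1.tensorMod A B) D) :
    Spans A (CohB1.tensorMod B D) := by
  intro z
  let φ := (AmpleLib.assoc A B D).hom.app ⊤
  obtain ⟨w, rfl⟩ := (ConcreteCategory.bijective_of_isIso φ).2 z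
  have hw := h' w
  induction hw using AddSubgroup.closure_induction with
  | mem w hw =>
    obtain ⟨⟨c, d⟩, rfl⟩ := hw
    have hc := h c
    induction hc using AddSubgroup.closure_induction with
    | mem c hc =>
      obtain ⟨⟨a, b⟩, rfl⟩ := hc
      exact AddSubgroup.subset_closure
        ⟨(a, (SecTwist.tmul B D ⊤ b d : Γ(CohB1.tensorMod B D, ⊤))), (assoc_tmul A B D ⊤ a b d).symm⟩
    | zero =>
      simp only [SecTwist.tmul, TensorProduct.zero_tmul, map_zero]
      exact zero_mem _
    | add a b _ _ ha hb =>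
      simp only [SecTwist.tmul, TensorProduct.add_tmul, map_add] at ha hb ⊢
      exact add_mem ha hb
    | neg a _ ha =>
      simp only [SecTwist.tmul, TensorProduct.neg_tmul, map_neg] at ha ⊢
      exact neg_mem ha
  | zero => rw [map_zero]; exact zero_mem _
  | add a b _ _ ha hb => rw [map_add]; exact add_mem ha hb
  | neg a _ ha => rw [map_neg]; exact neg_mem ha

end Groth.Agent.SecMulGenLib
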